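import Groth.Prelude.Def_SGA1
import Groth.Prelude.Def_Flat
import Groth.Agent.Lib.LocImm12.Noeth
import Mathlib.AlgebraicGeometry.Morphisms.UniversallyInjective
import Mathlib.AlgebraicGeometry.Morphisms.Separated
import Mathlib.AlgebraicGeometry.PullbackCarrier

/-!
# Factorisation through a universal homeomorphism of a morphism constant on the fibres of a
universally submersive morphism
-/

universe u

set_option backward.isDefEq.respectTransparency.types false

open CategoryTheory CategoryTheory.Limits AlgebraicGeometry Topology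

namespace Groth.Agent.SubDesc15

variable {Z T T' : Scheme.{u}} {pr : Z ⟶ T} {p : T' ⟶ T} {g : T' ⟶ Z}

theorem isQuotientMap_of_isPullback (hp : SGA1.UnivSubmersive p) {P W : Scheme.{u}} {a : P ⟶ T'}
    {b : P ⟶ W} {w : W ⟶ T} (sq : IsPullback a b p w) : IsQuotientMap b :=
  hp _ _ _ sq.flip

theorem isQuotientMap_self (hp : SGA1.UnivSubmersive p) : IsQuotientMap p :=
  hp (𝟙 _) (𝟙 _) p (IsPullback.of_vert_isIso ⟨by simp⟩)

/-- `g` agrees on field points over a common point of `T`. -/
def IsConst (p : T' ⟶ T) (g : T' ⟶ Z) : Prop :=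
  ∀ (W : Scheme.{u}) [IsReduced W] (a b : W ⟶ T'), a ≫ p = b ≫ p → a ≫ g = b ≫ g

theorem apply_eq_of_const (hc : IsConst p g) (x y : T') (h : p x = p y) : g x = g y := by
  obtain ⟨c, hx, hy⟩ := Scheme.Pullback.exists_preimage_pullback x y h
  let w := (pullback p p).fromSpecResidueField c
  have h' := hc _ (w ≫ pullback.fst p p) (w ≫ pullback.snd p p)
    (by simp only [Category.assoc, pullback.condition])
  obtain ⟨t, ht⟩ : ∃ t, w t = c := ⟨IsLocalRing.closedPoint _, Scheme.fromSpecResidueField_apply _ _⟩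
  have h'' := congrArg (fun m : _ ⟶ Z => m t) h'
  simp only [Scheme.Hom.comp_apply, ht, hx, hy] at h''
  exact h''

/-- The image of `g` is closed in a saturated open piece separated over `T`. -/
theorem isClosed_preimage_range (hp : SGA1.UnivSubmersive p) (hg : g ≫ pr = p) (hc : IsConst p g)
    {W : Scheme.{u}} (j : W ⟶ Z) [IsOpenImmersion j] [IsSeparated (j ≫ pr)]
    (hW : ∀ x y : T', p x = p y → g x ∈ Set.range j → g y ∈ Set.range j)
    (hV : ∀ w : W, ∃ x : T', p x = pr (j w) ∧ g x ∈ Set.range j) :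
    IsClosed (j ⁻¹' Set.range g) := by
  let Q := pullback (j ≫ pr) p
  let U : T'.Opens := ⟨g ⁻¹' Set.range j, j.isOpenEmbedding.isOpen_range.preimage g.continuous⟩
  let gW : (U : Scheme.{u}) ⟶ W := IsOpenImmersion.lift j (U.ι ≫ g) (by
    rintro _ ⟨x, rfl⟩
    rw [Scheme.Hom.comp_apply]
    exact x.2)
  have hgW : gW ≫ j = U.ι ≫ g := IsOpenImmersion.lift_fac _ _ _
  let s : (U : Scheme.{u}) ⟶ Q := pullback.lift gW U.ι (by rw [reassoc_of% hgW, hg])
  have hQU : ∀ c : Q, pullback.snd (j ≫ pr) p c ∈ U := by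
    intro c
    obtain ⟨x, hx, hxU⟩ := hV (pullback.fst (j ≫ pr) p c)
    refine hW x _ ?_ hxU
    rw [hx, ← Scheme.Hom.comp_apply, ← Scheme.Hom.comp_apply, ← Scheme.Hom.comp_apply,
      ← pullback.condition]
  let r : Q ⟶ U := IsOpenImmersion.lift U.ι (pullback.snd (j ≫ pr) p) (by
    rintro _ ⟨c, rfl⟩; rw [U.range_ι]; exact hQU c)
  have hr : r ≫ U.ι = pullback.snd (j ≫ pr) p := IsOpenImmersion.lift_fac _ _ _
  have hrs : s ≫ r = 𝟙 _ := by
    rw [← cancel_mono U.ι, Category.assoc, hr, pullback.lift_snd, Category.id_comp]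
  have : IsSeparated r := by
    have : IsSeparated (r ≫ U.ι) := by rw [hr]; infer_instance
    exact IsSeparated.of_comp r U.ι
  have : IsClosedImmersion s := by
    have : IsClosedImmersion (s ≫ r) := by rw [hrs]; infer_instance
    exact IsClosedImmersion.of_comp s r
  have heq : pullback.fst (j ≫ pr) p ⁻¹' (j ⁻¹' Set.range g) = Set.range s := by
    ext c
    constructor
    · rintro ⟨a, ha⟩
      obtain ⟨d, hd₁, hd₂⟩ := Scheme.Pullback.exists_preimage_pullback
        (f := pullback.fst (j ≫ pr) p ≫ j) (g := g) c a (by rw [Scheme.Hom.comp_apply]; exact ha.symm)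
      let δ := (pullback (pullback.fst (j ≫ pr) p ≫ j) g).fromSpecResidueField d
      let δ₁ := δ ≫ pullback.fst (pullback.fst (j ≫ pr) p ≫ j) g
      let α := δ ≫ pullback.snd (pullback.fst (j ≫ pr) p ≫ j) g
      let β := δ₁ ≫ pullback.snd (j ≫ pr) p
      have hαj : α ≫ g = δ₁ ≫ pullback.fst (j ≫ pr) p ≫ j := by
        simp only [α, δ₁, Category.assoc, pullback.condition]
      have hβα : β ≫ g = α ≫ g := hc _ β α (by
        have hαp : α ≫ p = (α ≫ g) ≫ pr := by simp only [Category.assoc, hg]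
        rw [hαp, hαj]
        simp only [β, Category.assoc, ← pullback.condition])
      let β' := δ₁ ≫ r
      have hδ : δ₁ = β' ≫ s := by
        apply pullback.hom_ext
        · have hs₁ : s ≫ pullback.fst (j ≫ pr) p ≫ j = U.ι ≫ g := by
            simp only [s, pullback.lift_fst_assoc, hgW]
          have hb : β' ≫ U.ι ≫ g = β ≫ g := by simp only [β', β, Category.assoc, reassoc_of% hr]
          apply (cancel_mono j).1
          have h₁ : δ₁ ≫ pullback.fst (j ≫ pr) p ≫ j = β' ≫ s ≫ pullback.fst (j ≫ pr) p ≫ j := by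
            rw [hs₁, hb, hβα, hαj]
          simpa only [Category.assoc] using h₁
        · simp only [β', Category.assoc, s, pullback.lift_snd, hr]
      refine ⟨β' (IsLocalRing.closedPoint _), ?_⟩
      rw [← Scheme.Hom.comp_apply, ← hδ]
      simp only [δ₁, δ, Scheme.Hom.comp_apply, Scheme.fromSpecResidueField_apply, hd₁]
    · rintro ⟨x, rfl⟩
      refine ⟨U.ι x, ?_⟩
      rw [← Scheme.Hom.comp_apply, ← Scheme.Hom.comp_apply, ← Scheme.Hom.comp_apply, pullback.lift_fst_assoc,
        hgW]
  rw [← (isQuotientMap_of_isPullback hp (IsPullback.of_hasPullback (j ≫ pr) p).flip).isClosed_preimage,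
    heq]
  exact s.isClosedEmbedding.isClosed_range

theorem exists_open_isClosed_range (hp : SGA1.UnivSubmersive p) (hg : g ≫ pr = p) (hc : IsConst p g) :
    ∃ Ω : Z.Opens, Set.range g ⊆ Ω ∧ IsClosed (Ω.ι ⁻¹' Set.range g) := by
  have key : ∀ x : T', ∃ O : Z.Opens, g x ∈ O ∧ ∃ R : Set Z, IsOpen R ∧
      R ∩ O = (Set.range g)ᶜ ∩ O := by
    intro x
    obtain ⟨A, hA, hxA, -⟩ := exists_isAffineOpen_mem_and_subset (X := Z) (x := g x) (U := ⊤) trivial
    let V : T.Opens := ⟨p '' (g ⁻¹' A), by
      rw [← (isQuotientMap_self hp).isOpen_preimage]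
      convert A.2.preimage g.continuous using 1
      ext y
      exact ⟨fun ⟨z, hz, hzy⟩ => by
        show g y ∈ A
        rwa [← apply_eq_of_const hc z y hzy], fun hy => ⟨y, hy, rfl⟩⟩⟩
    let O : Z.Opens := A ⊓ pr ⁻¹ᵁ V
    have hprg : ∀ y, pr (g y) = p y := fun y => by rw [← Scheme.Hom.comp_apply, hg]
    have hgO : ∀ y, g y ∈ A → g y ∈ O := fun y hy => ⟨hy, by
      show pr (g y) ∈ V
      rw [hprg]; exact ⟨y, hy, rfl⟩⟩
    have : IsAffine (A : Scheme.{u}) := hA
    have : IsSeparated (O.ι ≫ pr) := by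
      rw [← Z.homOfLE_ι (inf_le_left : O ≤ A), Category.assoc]
      infer_instance
    have hcl := isClosed_preimage_range hp hg hc O.ι
      (fun y z h hy => by
        rw [O.range_ι] at hy ⊢
        exact hgO z (apply_eq_of_const hc y z h ▸ hy.1))
      (fun w => by
        obtain ⟨y, hy, hyw⟩ := (w.2 : O.ι w ∈ O).2
        exact ⟨y, hyw, by rw [O.range_ι]; exact hgO y hy⟩)
    refine ⟨O, hgO x hxA, O.ι '' (O.ι ⁻¹' Set.range g)ᶜ,
      O.ι.isOpenEmbedding.isOpenMap _ hcl.isOpen_compl, ?_⟩
    rw [← Set.preimage_compl, Set.image_preimage_eq_inter_range, O.range_ι, Set.inter_assoc,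
      Set.inter_self]
  choose O hxO R hR hRO using key
  refine ⟨⨆ x, O x, ?_, ?_⟩
  · rintro _ ⟨x, rfl⟩
    exact TopologicalSpace.Opens.mem_iSup.2 ⟨x, hxO x⟩
  · rw [← isOpen_compl_iff]
    have e : (((⨆ x, O x : Z.Opens)).ι ⁻¹' Set.range g)ᶜ =
        (⨆ x, O x : Z.Opens).ι ⁻¹' (⋃ x, R x ∩ O x) := by
      ext w
      simp only [Set.mem_compl_iff, Set.mem_preimage, Set.mem_iUnion, hRO]
      constructor
      · intro h
        obtain ⟨x, hx⟩ := TopologicalSpace.Opens.mem_iSup.1
          (w.2 : (⨆ x, O x : Z.Opens).ι w ∈ (⨆ x, O x : Z.Opens))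
        exact ⟨x, h, hx⟩
      · exact fun ⟨_, h, _⟩ => h
    rw [e]
    exact (isOpen_iUnion fun x => (hR x).inter (O x).2).preimage (Scheme.Hom.continuous _)

theorem univHomeo_of_const (hp : SGA1.UnivSubmersive p) {T₁ : Scheme.{u}} (q : T' ⟶ T₁) [Surjective q]
    (u : T₁ ⟶ T) (hu : q ≫ u = p) (hc : IsConst p q) :
    FlatMor.IsUnivHomeo u ∧ IsSeparated u := by
  have : Surjective p := ⟨(isQuotientMap_self hp).surjective⟩
  have hinj : UniversallyInjective u := by
    rw [(tfae_universallyInjective u).out 0 3 (a := UniversallyInjective u)]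
    refine ⟨fun c => ?_⟩
    obtain ⟨a, ha⟩ := q.surjective (pullback.fst u u c)
    obtain ⟨d, hd₁, hd₂⟩ := Scheme.Pullback.exists_preimage_pullback (f := q) (g := pullback.fst u u) a c ha
    obtain ⟨b, hb⟩ := q.surjective ((pullback.snd q (pullback.fst u u) ≫ pullback.snd u u) d)
    obtain ⟨e, he₁, he₂⟩ := Scheme.Pullback.exists_preimage_pullback
      (f := q) (g := pullback.snd q (pullback.fst u u) ≫ pullback.snd u u) b d hb
    let ε := (pullback q (pullback.snd q (pullback.fst u u) ≫ pullback.snd u u)).fromSpecResidueField e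
    let δ := ε ≫ pullback.snd q (pullback.snd q (pullback.fst u u) ≫ pullback.snd u u)
    let γ' := δ ≫ pullback.snd q (pullback.fst u u)
    let α := δ ≫ pullback.fst q (pullback.fst u u)
    let β := ε ≫ pullback.fst q (pullback.snd q (pullback.fst u u) ≫ pullback.snd u u)
    have hα : α ≫ q = γ' ≫ pullback.fst u u := by simp only [α, γ', Category.assoc, pullback.condition]
    have hβ : β ≫ q = γ' ≫ pullback.snd u u := by simp only [β, γ', δ, Category.assoc, pullback.condition]
    have h := hc _ α β (by rw [← hu, reassoc_of% hα, reassoc_of% hβ, pullback.condition])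
    rw [hα, hβ] at h
    have hγ : γ' = (γ' ≫ pullback.fst u u) ≫ pullback.diagonal u := by
      apply pullback.hom_ext <;> simp [h]
    refine ⟨(γ' ≫ pullback.fst u u) (IsLocalRing.closedPoint _), ?_⟩
    rw [← Scheme.Hom.comp_apply, ← hγ]
    simp only [γ', δ, ε, Scheme.Hom.comp_apply, Scheme.fromSpecResidueField_apply, he₂, hd₂]
  have hsurj : Surjective u := by
    have : Surjective (q ≫ u) := by rw [hu]; infer_instance
    exact Surjective.of_comp q u
  constructor
  · intro X' Y' i₁ i₂ f' h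
    have : Surjective f' := MorphismProperty.of_isPullback h.flip hsurj
    have : UniversallyInjective f' := MorphismProperty.of_isPullback h.flip hinj
    have sq := IsPullback.of_hasPullback q i₁
    have hquot : IsQuotientMap (pullback.snd q i₁ ≫ f') :=
      isQuotientMap_of_isPullback hp (a := pullback.fst q i₁) (w := i₂)
        (by rw [← hu]; exact sq.paste_vert h.flip)
    rw [Scheme.Hom.comp_base, TopCat.coe_comp] at hquot
    have hq' : IsQuotientMap f' :=
      IsQuotientMap.of_comp (pullback.snd q i₁).continuous f'.continuous hquot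
    exact ⟨f'.continuous, fun O hO => by
      rw [← hq'.isOpen_preimage, Set.preimage_image_eq _ f'.injective]
      exact hO, f'.injective, f'.surjective⟩
  · have : Surjective (pullback.diagonal u) :=
      ((tfae_universallyInjective u).out 0 3 (a := UniversallyInjective u)).1 hinj
    exact ⟨IsClosedImmersion.of_isPreimmersion _
      (by rw [(pullback.diagonal u).surjective.range_eq]; exact isClosed_univ)⟩

theorem exists_factor [QuasiSeparated pr] [QuasiCompact p] (hp : SGA1.UnivSubmersive p)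
    (hg : g ≫ pr = p) (hc : IsConst p g) :
    ∃ (T₁ : Scheme.{u}) (q : T' ⟶ T₁) (k : T₁ ⟶ Z), q ≫ k = g ∧
      (∀ U : T₁.Opens, Function.Injective (q.app U).hom) ∧
      FlatMor.IsUnivHomeo (k ≫ pr) ∧ IsSeparated (k ≫ pr) := by
  obtain ⟨Ω, hΩ, hcl⟩ := exists_open_isClosed_range hp hg hc
  let h := IsOpenImmersion.lift Ω.ι g (by rw [Ω.range_ι]; exact hΩ)
  have hh : h ≫ Ω.ι = g := IsOpenImmersion.lift_fac _ _ _
  have : QuasiCompact h := by
    have : QuasiCompact (h ≫ Ω.ι ≫ pr) := by rw [reassoc_of% hh, hg]; infer_instance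
    exact QuasiCompact.of_comp h (Ω.ι ≫ pr)
  have hk : h.toImage ≫ h.imageι ≫ Ω.ι = g := by rw [Scheme.Hom.toImage_imageι_assoc, hh]
  have hrange : Set.range h = Ω.ι ⁻¹' Set.range g := by
    ext w
    constructor
    · rintro ⟨x, rfl⟩
      exact ⟨x, by rw [← Scheme.Hom.comp_apply, hh]⟩
    · rintro ⟨x, hx⟩
      exact ⟨x, Ω.ι.injective (by rw [← Scheme.Hom.comp_apply, hh, hx])⟩
  have : Surjective h.toImage := by
    refine ⟨fun y => ?_⟩
    have hy : h.imageι y ∈ (h.ker.support : Set _) := by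
      rw [← Scheme.IdealSheafData.range_subschemeι]; exact ⟨y, rfl⟩
    rw [Scheme.Hom.support_ker, hrange, hcl.closure_eq, ← hrange] at hy
    obtain ⟨x, hx⟩ := hy
    exact ⟨x, h.imageι.injective (by rw [← Scheme.Hom.comp_apply, Scheme.Hom.toImage_imageι, hx])⟩
  refine ⟨h.image, h.toImage, h.imageι ≫ Ω.ι, hk, LocImm12.toImage_app_injective_of_opens h, ?_⟩
  refine univHomeo_of_const hp h.toImage _ (by rw [← hg, ← hk]; simp only [Category.assoc]) ?_
  intro K _ a b hab
  rw [← cancel_mono (h.imageι ≫ Ω.ι), Category.assoc, Category.assoc, hk]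
  exact hc K a b hab

end Groth.Agent.SubDesc15
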